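import Cfsg.Agent.H431.CS.Defs
import Cfsg.Agent.S3583
import Cfsg.Agent.S3675
import Cfsg.Agent.S0253

/-!
# S3677: row `PSL_2(q)`
-/

set_option autoImplicit false

namespace Cfsg.Agent.H426.CS

open Cfsg Cfsg.Agent.H431.CS Cfsg.Agent.H364 Cfsg.Agent.H370.AAM

universe u v w

/-- `Same` gives the same class sizes -/
theorem Same.cs {G : Type u} [Group G] [Finite G] {S : Type v} [Group S] [Finite S] (h : Same G S) :
    Set.range (fun g : G => (Subgroup.centralizer ({g} : Set G)).index) =
      Set.range (fun g : S => (Subgroup.centralizer ({g} : Set S)).index) := by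
  have key : ∀ {A : Type u} [Group A] [Finite A] {B : Type v} [Group B] [Finite B], Same A B →
      Set.range (fun g : A => (Subgroup.centralizer ({g} : Set A)).index) ⊆
      Set.range (fun g : B => (Subgroup.centralizer ({g} : Set B)).index) := by
    rintro A _ _ B _ _ h _ ⟨g, rfl⟩
    obtain ⟨s, hs⟩ : Nat.card (Subgroup.centralizer ({g} : Set A)) ∈ Co B := h.mem g
    refine ⟨s, ?_⟩
    have h3 := (Subgroup.centralizer ({g} : Set A)).card_mul_index
    have h4 := (Subgroup.centralizer ({s} : Set B)).card_mul_index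
    dsimp only at hs ⊢
    rw [h.card, ← hs, ← h4] at h3
    exact (Nat.eq_of_mul_eq_mul_left Nat.card_pos h3).symm
  have key' : ∀ {A : Type v} [Group A] [Finite A] {B : Type u} [Group B] [Finite B], Same A B →
      Set.range (fun g : A => (Subgroup.centralizer ({g} : Set A)).index) ⊆
      Set.range (fun g : B => (Subgroup.centralizer ({g} : Set B)).index) := by
    rintro A _ _ B _ _ h _ ⟨g, rfl⟩
    obtain ⟨s, hs⟩ : Nat.card (Subgroup.centralizer ({g} : Set A)) ∈ Co B := h.mem g
    refine ⟨s, ?_⟩
    have h3 := (Subgroup.centralizer ({g} : Set A)).card_mul_index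
    have h4 := (Subgroup.centralizer ({s} : Set B)).card_mul_index
    dsimp only at hs ⊢
    rw [h.card, ← hs, ← h4] at h3
    exact (Nat.eq_of_mul_eq_mul_left Nat.card_pos h3).symm
  exact Set.Subset.antisymm (key h) (key' ⟨h.card.symm, h.co.symm⟩)

/-- `G = N × A` with `|G| = |N|` -/
theorem nonempty_of_sub {G : Type u} [Group G] [Finite G] {S : Type v} [Group S] (hcard : Nat.card G = Nat.card S)
    (N : Subgroup G) (e : Nonempty (N ≃* S)) : Nonempty (G ≃* S) := by
  obtain ⟨e⟩ := e
  have h1 : N = ⊤ := Subgroup.eq_top_of_card_eq N (by rw [hcard]; exact Nat.card_congr e.toEquiv)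
  subst h1
  exact ⟨Subgroup.topEquiv.symm.trans e⟩

variable {F : Type v} [Field F] [Fintype F] {G : Type u} [Group G] [Finite G]

/-- row `PSL_2` -/
theorem row_psl_two (hF4 : 4 ≤ Fintype.card F) (h : Same G (Matrix.ProjectiveSpecialLinearGroup (Fin 2) F)) :
    Nonempty (G ≃* Matrix.ProjectiveSpecialLinearGroup (Fin 2) F) := by
  by_cases hq : (2 ∣ Fintype.card F ∧ 2 < Fintype.card F) ∨ (¬ 2 ∣ Fintype.card F ∧ 7 ≤ Fintype.card F)
  · obtain ⟨N, A, -, -, -, -, e⟩ := S3583.result hq (Same.cs h)
    exact nonempty_of_sub h.card N e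
  · have h5 : Fintype.card F = 5 := by
      rw [not_or, not_and_or, not_and_or] at hq
      obtain ⟨h1, h2⟩ := hq
      rcases h1 with h1 | h1
      · rcases h2 with h2 | h2
        · exact absurd h1 h2
        · omega
      · omega
    obtain ⟨e⟩ := S0253.result h5
    have h' := h.congr e
    obtain ⟨e'⟩ := S3675.result 5 h'.card (Same.cs h')
    exact ⟨e'.trans e.symm⟩

end Cfsg.Agent.H426.CS
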